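import Cfsg.Agent.H970.B4.Up
import Cfsg.Agent.S4698
import Cfsg.Agent.S0908

/-!
# S4876, `p = 2`: `k(B₀) ≠ 6` (Z1 of the plan)

`k_0(B_0) = 4`, so `|P : P'| = 4` by S4925; the blocks with dihedral, semidihedral and quaternion defect groups have
`k(B) ≠ 6`, except for the quaternion group of order `8`, where there would be four characters of odd degree and two of
degree `2` modulo `4`: the sum of the squares of the degrees would be `4` modulo `8`.
-/

set_option autoImplicit false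

open Cfsg Subgroup

namespace Cfsg.Agent.H970.K6

universe u

variable {G : Type u} [Group G] [Finite G] {M : Ideal AlgInt}

/-- Z1: `p = 2`. -/
theorem two (hM : IsPModular 2 M)
    (h25 : ∀ P : Sylow 2 G,
      Nat.card {χ : IrrCharacter G // χ ∈ principalBlock M G ∧ ¬ 2 ∣ charDegree (χ : G → ℂ)} = 4 →
        (commutator ↥(P : Subgroup G)).index = 4) :
    Nat.card (principalBlock M G) ≠ 6 := by
  classical
  intro hk
  have := Characters.Core.finite_irr (G := G)
  have := Fintype.ofFinite G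
  have := hM.2.1.isPrime
  obtain ⟨P⟩ : Nonempty (Sylow 2 G) := inferInstance
  have hBD : IsDefectGroup 2 M (principalBlock M G) (P : Subgroup G) := (S4652.result 2 M hM _).2 ⟨P, rfl⟩
  have hB : IsPBlock M (principalBlock M G) := Blocks.PrincipalSection.isPBlock_principalBlock
  set n := blockDefect 2 (principalBlock M G) with hn
  have hP : Nat.card (P : Subgroup G) = 2 ^ n := S0908.result 2 M hM _ hB _ hBD
  have hn3 : 3 ≤ n := by
    by_contra h
    have h2 := (S4698.result 2 M hM _ hB _ rfl).1 (by omega)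
    rw [hk, ← hn] at h2
    have h3 : 2 ^ n ≤ 2 ^ 2 := Nat.pow_le_pow_right (by norm_num) (by omega)
    omega
  have h8 : 2 ^ 3 ∣ Nat.card G := by
    refine dvd_trans ?_ (Subgroup.card_subgroup_dvd_card (P : Subgroup G))
    rw [hP]
    exact pow_dvd_pow 2 hn3
  have hk0eq : H774.K0.k0 2 M G = (H703.Lat.S 2 (H703.Lat.B0 M G)).card := by
    rw [← Nat.card_eq_finsetCard, H774.K0.k0]
    refine Nat.card_congr (Equiv.subtypeEquivRight fun χ => ?_)
    rw [H703.Lat.mem_S, H703.Lat.mem_B0]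
  have hkeq : (H703.Lat.B0 M G).card = 6 := by
    rw [← hk, ← Nat.card_eq_finsetCard]
    exact Nat.card_congr (Equiv.subtypeEquivRight fun χ => H703.Lat.mem_B0)
  have hk0 : H774.K0.k0 2 M G = 4 := by
    have h5 := H703.Lat.four_dvd_card hM (H703.Lat.good_principal (G := G) hM)
      (dvd_trans (by norm_num) h8)
    rw [← hk0eq] at h5
    have h7 : H774.K0.k0 2 M G ≤ 6 := by
      rw [hk0eq, ← hkeq]
      exact Finset.card_le_card fun χ hχ => (H703.Lat.mem_S.1 hχ).1
    have h8 := H774.K0.k0_pos (G := G) hM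
    omega
  have hidx := h25 P hk0
  rcases B4.cases_of_index_four hn3 hP hidx with ⟨m, ⟨e⟩⟩ | ⟨m, hm, ⟨e⟩⟩ | ⟨m, hm, hcard, hqd⟩
  · have hcard : Nat.card (P : Subgroup G) = 2 ^ (m + 3) := by
      have : NeZero (2 ^ (m + 1)) := ⟨by positivity⟩
      rw [Nat.card_congr e.toEquiv, Nat.card_eq_fintype_card, QuaternionGroup.card]
      ring
    have h30 := S4530.result M hM _ hB _ hBD (m + 3) (by omega) ⟨e⟩
    have hr1 := h30.1
    have hr2 := h30.2.2.1
    rw [hk] at hr2
    have hm0 : m = 0 := by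
      by_contra hm
      have h3 : 2 ^ 2 ≤ 2 ^ (m + 3 - 2) := Nat.pow_le_pow_right (by norm_num) (by omega)
      omega
    subst hm0
    -- four characters of odd degree, two of degree `2` modulo `4`
    have hdeg : ∀ χ ∈ H703.Lat.B0 M G, χ ∉ H703.Lat.S 2 (H703.Lat.B0 M G) →
        (8 : ℤ) ∣ (charDegree (χ : G → ℂ) : ℤ) ^ 2 - 4 := by
      intro χ hχ hχS
      have h2d : 2 ∣ charDegree (χ : G → ℂ) := by
        by_contra h
        exact hχS (H703.Lat.mem_S.2 ⟨hχ, h⟩)
      have hpos := Blocks.Basic.charDegree_pos χ.2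
      have hh := h30.2.2.2.2.1 χ (H703.Lat.mem_B0.1 hχ)
      rw [S4888.blockHeight_principal 2 hM] at hh
      have h4 : (charDegree (χ : G → ℂ)).factorization 2 = 1 := by
        rcases hh with hh | hh | hh
        · exact absurd h2d ((S4888.factorization_eq_zero_iff' Nat.prime_two hpos).1 hh)
        · exact hh
        · simpa using hh
      obtain ⟨t, ht⟩ := h2d
      have ht2 : ¬ 2 ∣ t := by
        intro h
        obtain ⟨s, rfl⟩ := h
        have h5 : 2 ^ 2 ∣ charDegree (χ : G → ℂ) := ⟨s, by rw [ht]; ring⟩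
        have h6 := (Nat.prime_two.pow_dvd_iff_le_factorization hpos.ne').1 h5
        omega
      obtain ⟨s, rfl⟩ : ∃ s, t = 2 * s + 1 := ⟨t / 2, by omega⟩
      rw [ht]
      push_cast
      exact ⟨2 * (s * s + s), by ring⟩
    have hodd : ∀ χ ∈ H703.Lat.S 2 (H703.Lat.B0 M G), (8 : ℤ) ∣ (charDegree (χ : G → ℂ) : ℤ) ^ 2 - 1 := by
      intro χ hχ
      have h2d := (H703.Lat.mem_S.1 hχ).2
      obtain ⟨s, hs⟩ : ∃ s, charDegree (χ : G → ℂ) = 2 * s + 1 := ⟨charDegree (χ : G → ℂ) / 2, by omega⟩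
      rw [hs]
      obtain ⟨r, hr⟩ : 2 ∣ s * (s + 1) := (Nat.even_mul_succ_self s).two_dvd
      have hr' : (s : ℤ) * (s + 1) = 2 * r := by exact_mod_cast hr
      push_cast
      exact ⟨r, by linear_combination 4 * hr'⟩
    obtain ⟨r, hr⟩ := H703.Lat.dvd_sum_sq hM (H703.Lat.good_principal (G := G) hM) h8
    have hsub : H703.Lat.S 2 (H703.Lat.B0 M G) ⊆ H703.Lat.B0 M G := fun χ hχ => (H703.Lat.mem_S.1 hχ).1
    rw [← Finset.sum_sdiff hsub] at hr
    have hA : (8 : ℤ) ∣ ∑ χ ∈ H703.Lat.B0 M G \ H703.Lat.S 2 (H703.Lat.B0 M G),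
        ((charDegree (χ : G → ℂ) : ℤ) ^ 2 - 4) :=
      Finset.dvd_sum fun χ hχ => hdeg χ (Finset.mem_sdiff.1 hχ).1 (Finset.mem_sdiff.1 hχ).2
    have hC : (8 : ℤ) ∣ ∑ χ ∈ H703.Lat.S 2 (H703.Lat.B0 M G), ((charDegree (χ : G → ℂ) : ℤ) ^ 2 - 1) :=
      Finset.dvd_sum hodd
    have hc1 : (H703.Lat.S 2 (H703.Lat.B0 M G)).card = 4 := by rw [← hk0eq, hk0]
    have hc2 : (H703.Lat.B0 M G \ H703.Lat.S 2 (H703.Lat.B0 M G)).card = 2 := by
      rw [Finset.card_sdiff_of_subset hsub, hkeq, hc1]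
    rw [Finset.sum_sub_distrib, Finset.sum_const, nsmul_eq_mul] at hA hC
    rw [hc1] at hC
    rw [hc2] at hA
    push_cast at hr hA hC
    omega
  · have hcard : Nat.card (P : Subgroup G) = 2 * m := by
      rw [Nat.card_congr e.toEquiv, DihedralGroup.nat_card]
    have hmn : m = 2 ^ (n - 1) := by
      have h1 : 2 ^ n = 2 * 2 ^ (n - 1) := by rw [← pow_succ']; congr 1; omega
      rw [hP, h1] at hcard
      omega
    subst hmn
    have h1 := (S4528.result M hM _ hB _ hBD n hn3 ⟨e⟩).1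
    rw [hk] at h1
    have h2 : 2 ^ (n - 2) = 3 := by omega
    have h3 : 2 ∣ 2 ^ (n - 2) := dvd_pow_self 2 (by omega)
    omega
  · have h1 := (S4529.result M hM _ hB _ hBD (m + 1) (by omega) hcard ⟨m, hm, hcard, hqd⟩).1
    rw [hk] at h1
    have h3 : 2 ^ 2 ≤ 2 ^ (m + 1 - 2) := Nat.pow_le_pow_right (by norm_num) (by omega)
    omega

end Cfsg.Agent.H970.K6
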